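import Mathlib
import Cfsg.Agent.Characters.GaloisIrr
import Cfsg.Agent.S0145
import Cfsg.Agent.H697.Alm.Defs

/-!
# Characters fixed by the automorphisms of `p`-power order over `ℚ(ζ_{p m'})` (helper342)

`|G| = n = p ^ (a + 1) m'`, `J` = kernel of `(ℤ/n)ˣ → (ℤ/p m')ˣ`, a `p`-group acting on the irreducible characters by
`χ ↦ (g ↦ χ (g ^ u))`.

* `almRat_of_fixed` : the fixed characters are almost `p`-rational;
* `sum_fixed` : sums of invariant functions with values in a ring of characteristic `p` over all characters and over the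
  fixed ones agree.
-/

set_option autoImplicit false
set_option linter.unusedSectionVars false

namespace Cfsg.Agent.H342.S4790

open Cfsg Cfsg.Agent.Characters Cfsg.Agent.H697.Alm

universe u

/-- elements fixed by all automorphisms fixing `ζ` -/
theorem mem_adjoin_of_fixed {ζ z : ℂ} (hz : IsIntegral ℚ z) (h : ∀ σ : ℂ ≃+* ℂ, σ ζ = ζ → σ z = z) :
    z ∈ IntermediateField.adjoin ℚ ({ζ} : Set ℂ) := by
  let K₀ := IntermediateField.adjoin ℚ ({ζ} : Set ℂ)
  let K := algebraicClosure K₀ ℂ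
  have hzK : z ∈ K := mem_algebraicClosure_iff.2 (hz.tower_top (A := K₀)).isAlgebraic
  have : IsAlgClosure K₀ K := algebraicClosure.isAlgClosure K₀ ℂ
  have : Normal K₀ K := IsAlgClosure.normal K₀ K
  have : IsGalois K₀ K := ⟨⟩
  have h1 : (⟨z, hzK⟩ : K) ∈ (⊥ : IntermediateField K₀ K) := by
    rw [InfiniteGalois.mem_bot_iff_fixed]
    intro f
    obtain ⟨τ, hτ⟩ := GaloisBasic.exists_ringEquiv_extend (K := K) f.toRingEquiv
    have h4 : τ ζ = ζ := by
      have h5 := hτ (algebraMap K₀ K ⟨ζ, IntermediateField.mem_adjoin_simple_self ℚ ζ⟩)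
      have h6 : f.toRingEquiv (algebraMap K₀ K ⟨ζ, IntermediateField.mem_adjoin_simple_self ℚ ζ⟩) =
          algebraMap K₀ K ⟨ζ, IntermediateField.mem_adjoin_simple_self ℚ ζ⟩ := f.commutes _
      rw [h6] at h5
      exact h5
    apply (algebraMap K ℂ).injective
    have h2 := hτ ⟨z, hzK⟩
    have h3 := h τ h4
    exact h2.symm.trans h3
  obtain ⟨w, hw⟩ := IntermediateField.mem_bot.1 h1
  have h2 : (w : ℂ) = z := congrArg (algebraMap K ℂ) hw
  rw [← h2]
  exact w.2

/-- the kernel is a `p`-group -/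
theorem isPGroup_ker {p a m' n : ℕ} [Fact p.Prime] (hpm : ¬ p ∣ m') (hm : 0 < m') (hn : n = p ^ (a + 1) * m')
    (h : p * m' ∣ n) : IsPGroup p (ZMod.unitsMap h).ker := by
  have hp : p.Prime := Fact.out
  subst hn
  have h0 : NeZero (p ^ (a + 1) * m') := ⟨(Nat.mul_pos (pow_pos hp.pos _) hm).ne'⟩
  have h0' : NeZero (p * m') := ⟨(Nat.mul_pos hp.pos hm).ne'⟩
  have hcop : Nat.Coprime p m' := (Nat.Prime.coprime_iff_not_dvd hp).2 hpm
  have h1 : Nat.card (ZMod (p ^ (a + 1) * m'))ˣ = p ^ a * ((p - 1) * Nat.totient m') := by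
    rw [Nat.card_eq_fintype_card, ZMod.card_units_eq_totient, Nat.totient_mul (hcop.pow_left _),
      Nat.totient_prime_pow_succ hp]
    ring
  have h2 : Nat.card (ZMod (p * m'))ˣ = (p - 1) * Nat.totient m' := by
    rw [Nat.card_eq_fintype_card, ZMod.card_units_eq_totient, Nat.totient_mul hcop, Nat.totient_prime hp]
  have h3 := Subgroup.card_mul_index (ZMod.unitsMap h).ker
  have h4 : (ZMod.unitsMap h).ker.index = Nat.card (ZMod (p * m'))ˣ := by
    rw [Subgroup.index_ker, MonoidHom.range_eq_top.2 (ZMod.unitsMap_surjective h)]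
    exact Nat.card_congr Subgroup.topEquiv.toEquiv
  rw [h4, h2, h1] at h3
  have h5 : 0 < (p - 1) * Nat.totient m' := Nat.mul_pos (by have := hp.two_le; omega) (Nat.totient_pos.2 hm)
  exact IsPGroup.of_card (n := a) (Nat.eq_of_mul_eq_mul_right h5 h3)

/-- sums over a set with an action of a `p`-group in characteristic `p` -/
theorem sum_eq_sum_fixed {H α k : Type*} [Group H] {p : ℕ} [Fact p.Prime] (hH : IsPGroup p H) [MulAction H α]
    [Fintype α] [DecidablePred fun a : α => ∀ h : H, h • a = a] [CommRing k] [CharP k p] (f : α → k)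
    (hf : ∀ (h : H) (a : α), f (h • a) = f a) :
    ∑ a, f a = ∑ a ∈ Finset.univ.filter (fun a : α => ∀ h : H, h • a = a), f a := by
  classical
  have key : ∀ c : k, ((Finset.univ.filter (fun a => f a = c)).card : k) =
      ((Finset.univ.filter (fun a : α => (∀ h : H, h • a = a) ∧ f a = c)).card : k) := by
    intro c
    let act : MulAction H {a : α // f a = c} :=
      { smul := fun h a => ⟨h • a.1, by rw [hf]; exact a.2⟩
        one_smul := fun a => Subtype.ext (one_smul H a.1)
        mul_smul := fun g h a => Subtype.ext (mul_smul g h a.1) }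
    have h1 := hH.card_modEq_card_fixedPoints {a : α // f a = c}
    have h2 : Nat.card {a : α // f a = c} = (Finset.univ.filter (fun a => f a = c)).card := by
      rw [Nat.card_eq_fintype_card, Fintype.card_subtype]
    have h3 : Nat.card (MulAction.fixedPoints H {a : α // f a = c}) =
        (Finset.univ.filter (fun a : α => (∀ h : H, h • a = a) ∧ f a = c)).card := by
      rw [← Fintype.card_subtype, ← Nat.card_eq_fintype_card]
      refine Nat.card_congr ⟨fun a => ⟨a.1.1, fun h => congrArg Subtype.val (a.2 h), a.1.2⟩,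
        fun a => ⟨⟨a.1, a.2.2⟩, fun h => Subtype.ext (a.2.1 h)⟩, fun a => rfl, fun a => rfl⟩
    rw [h2, h3] at h1
    exact (CharP.natCast_eq_natCast' k p h1)
  have e1 : ∑ a, f a = ∑ c ∈ Finset.univ.image f, ((Finset.univ.filter (fun a => f a = c)).card : k) * c := by
    rw [← Finset.sum_fiberwise_of_maps_to (g := f) (t := Finset.univ.image f)
      (fun a ha => Finset.mem_image_of_mem f ha)]
    refine Finset.sum_congr rfl fun c _ => ?_
    rw [Finset.sum_congr rfl (fun a ha => (Finset.mem_filter.1 ha).2 :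
      ∀ a ∈ Finset.univ.filter (fun a => f a = c), f a = c), Finset.sum_const, nsmul_eq_mul]
  have e2 : ∑ a ∈ Finset.univ.filter (fun a : α => ∀ h : H, h • a = a), f a =
      ∑ c ∈ Finset.univ.image f, ((Finset.univ.filter (fun a : α => (∀ h : H, h • a = a) ∧ f a = c)).card : k) * c := by
    rw [← Finset.sum_fiberwise_of_maps_to (g := f) (t := Finset.univ.image f)
      (fun a _ => Finset.mem_image_of_mem f (Finset.mem_univ a))]
    refine Finset.sum_congr rfl fun c _ => ?_
    rw [Finset.filter_filter]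
    rw [Finset.sum_congr rfl (fun a ha => (Finset.mem_filter.1 ha).2.2 :
      ∀ a ∈ Finset.univ.filter (fun a : α => (∀ h : H, h • a = a) ∧ f a = c), f a = c), Finset.sum_const, nsmul_eq_mul]
  rw [e1, e2]
  exact Finset.sum_congr rfl fun c _ => by rw [key c]

section group

variable {G : Type u} [Group G] [Finite G]

theorem pow_val_cast (g : G) (m : ℕ) : g ^ ((m : ZMod (Nat.card G)).val) = g ^ m := by
  have : NeZero (Nat.card G) := ⟨Nat.card_pos.ne'⟩
  rw [ZMod.val_natCast, pow_mod_natCard]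

/-- the action of the units on the irreducible characters -/
@[reducible] noncomputable def act (G : Type u) [Group G] [Finite G] : MulAction (ZMod (Nat.card G))ˣ (IrrCharacter G) where
  smul u χ := ⟨fun g => (χ : G → ℂ) (g ^ (u : ZMod (Nat.card G)).val),
    GaloisIrr.isIrr_pow (ZMod.val_coe_unit_coprime u) χ.2⟩
  one_smul χ := by
    apply Subtype.ext
    funext g
    change (χ : G → ℂ) (g ^ ((1 : (ZMod (Nat.card G))ˣ) : ZMod (Nat.card G)).val) = (χ : G → ℂ) g
    have := pow_val_cast g 1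
    rw [Nat.cast_one, pow_one] at this
    rw [Units.val_one, this]
  mul_smul u v χ := by
    apply Subtype.ext
    funext g
    change (χ : G → ℂ) (g ^ ((u * v : (ZMod (Nat.card G))ˣ) : ZMod (Nat.card G)).val) =
      (χ : G → ℂ) ((g ^ (u : ZMod (Nat.card G)).val) ^ (v : ZMod (Nat.card G)).val)
    rw [Units.val_mul, ← pow_mul, ZMod.val_mul, pow_mod_natCard]

/-- the fixed characters are almost `p`-rational -/
theorem almRat_of_fixed {p n' : ℕ} (hn' : 0 < n') (hpn : ¬ p ^ 2 ∣ n') (h : n' ∣ Nat.card G) (χ : IrrCharacter G)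
    (hχ : ∀ u ∈ (ZMod.unitsMap h).ker, ∀ g : G, (χ : G → ℂ) (g ^ (u : ZMod (Nat.card G)).val) = (χ : G → ℂ) g) :
    AlmRat p (χ : G → ℂ) := by
  refine ⟨n', hn', hpn, fun g => ?_⟩
  have hc := Core.isIrr_isCharacter χ.2
  refine mem_adjoin_of_fixed ((GaloisBasic.isIntegral_apply hc g).tower_top) fun σ hσ => ?_
  obtain ⟨m, hm, h1⟩ := GaloisBasic.exists_coprime_pow (σ : ℂ →+* ℂ) (Nat.card_pos (α := G)).ne'
  have h2 : σ ((χ : G → ℂ) g) = (χ : G → ℂ) (g ^ m) := GaloisBasic.map_apply_card σ h1 hc g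
  rw [h2]
  have hζ := Complex.isPrimitiveRoot_exp n' hn'.ne'
  set ζ := Complex.exp (2 * Real.pi * Complex.I / n') with hζd
  have h3 : ζ ^ m = ζ := by
    have h4 : σ ζ = ζ ^ m := h1 ζ (by
      obtain ⟨c, hc⟩ := h
      rw [hc, pow_mul, hζ.pow_eq_one, one_pow])
    rw [← h4, hσ]
  have hn0 : NeZero n' := ⟨hn'.ne'⟩
  have h5 : (m : ZMod n') = 1 := by
    have h6 : ζ ^ m = ζ ^ 1 := by rw [h3, pow_one]
    have h7 : m ≡ 1 [MOD n'] := by
      refine hζ.pow_inj (Nat.mod_lt _ hn') (Nat.mod_lt _ hn') ?_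
      rw [← pow_eq_pow_mod m hζ.pow_eq_one, ← pow_eq_pow_mod 1 hζ.pow_eq_one, h6]
    have h8 := (ZMod.natCast_eq_natCast_iff _ _ _).2 h7
    rw [h8, Nat.cast_one]
  have h6 : ZMod.unitOfCoprime m hm ∈ (ZMod.unitsMap h).ker := by
    rw [MonoidHom.mem_ker]
    apply Units.ext
    rw [ZMod.unitsMap_val, ZMod.coe_unitOfCoprime, Units.val_one]
    rw [← h5]
    exact ZMod.cast_natCast h m
  have h7 := hχ _ h6 g
  rw [ZMod.coe_unitOfCoprime, pow_val_cast] at h7
  exact h7

/-- powers of elements of order dividing `n'` -/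
theorem pow_ker {n' : ℕ} (h : n' ∣ Nat.card G) {u : (ZMod (Nat.card G))ˣ} (hu : u ∈ (ZMod.unitsMap h).ker) {x : G}
    (hx : orderOf x ∣ n') : x ^ (u : ZMod (Nat.card G)).val = x := by
  have h0 : NeZero (Nat.card G) := ⟨Nat.card_pos.ne'⟩
  rw [MonoidHom.mem_ker] at hu
  have h1 := congrArg Units.val hu
  rw [ZMod.unitsMap_val, Units.val_one] at h1
  have h2 : (((u : ZMod (Nat.card G)).val : ℕ) : ZMod n') = ((1 : ℕ) : ZMod n') := by
    rw [Nat.cast_one, ← h1, ZMod.natCast_val]
  have h3 := (ZMod.natCast_eq_natCast_iff _ _ _).1 h2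
  have h4 : x ^ (u : ZMod (Nat.card G)).val = x ^ 1 := pow_eq_pow_iff_modEq.2 (h3.of_dvd hx)
  rw [h4, pow_one]

end group

end Cfsg.Agent.H342.S4790
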