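import Mathlib
import Cfsg.Agent.H342.S4790.Fix
import Cfsg.Agent.Characters.Counting

/-!
# S4790, T23: at least three almost `p`-rational characters (helper342)

* `three_le_apr_three`;
* `three_le_of_odd_centralizer`.
-/

set_option autoImplicit false
set_option linter.unusedSectionVars false

namespace Cfsg.Agent.H342.S4790

open Cfsg Cfsg.Agent.Characters Cfsg.Agent.H697.Alm
open scoped ComplexConjugate

universe u

variable {G : Type u} [Group G] [Finite G]

/-- the shape of the group order -/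
theorem exists_shape {p : ℕ} (hp : p.Prime) (hd : p ∣ Nat.card G) :
    ∃ a m' : ℕ, ¬ p ∣ m' ∧ 0 < m' ∧ Nat.card G = p ^ (a + 1) * m' ∧ p * m' ∣ Nat.card G ∧ ¬ p ^ 2 ∣ p * m' := by
  obtain ⟨a, m', h1, h2⟩ := Nat.exists_eq_pow_mul_and_not_dvd (Nat.card_pos (α := G)).ne' p hp.ne_one
  have hm : 0 < m' := by
    rcases Nat.eq_zero_or_pos m' with h | h
    · exact absurd (h ▸ dvd_zero p) h1
    · exact h
  rcases a with _ | a
  · rw [pow_zero, one_mul] at h2
    rw [h2] at hd
    exact absurd hd h1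
  · refine ⟨a, m', h1, hm, h2, ⟨p ^ a, by rw [h2]; ring⟩, fun h => h1 ?_⟩
    rw [pow_two] at h
    exact Nat.dvd_of_mul_dvd_mul_left hp.pos h

/-- **The fixed characters.** -/
theorem exists_fixed {p : ℕ} (hp : p.Prime) (hd : p ∣ Nat.card G) [Fintype (IrrCharacter G)] :
    ∃ (m' : ℕ) (S : Finset (IrrCharacter G)), (∀ j, j.Coprime p → j ∣ Nat.card G → j ∣ p * m') ∧
      (⟨1, Core.isIrr_one⟩ : IrrCharacter G) ∈ S ∧ S.card ≤ apr p G ∧
      ∀ (k : Type) [CommRing k] [CharP k p] (f : IrrCharacter G → k),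
        (∀ (χ ψ : IrrCharacter G), (∀ x : G, orderOf x ∣ p * m' → (χ : G → ℂ) x = (ψ : G → ℂ) x) → f χ = f ψ) →
        ∑ χ, f χ = ∑ χ ∈ S, f χ := by
  classical
  have : Fact p.Prime := ⟨hp⟩
  obtain ⟨a, m', hpm, hm, hn, hdv, hsq⟩ := exists_shape (G := G) hp hd
  refine ⟨m', Finset.univ.filter (fun χ : IrrCharacter G => ∀ u ∈ (ZMod.unitsMap hdv).ker, ∀ g : G,
      (χ : G → ℂ) (g ^ (u : ZMod (Nat.card G)).val) = (χ : G → ℂ) g), ?_, ?_, ?_, ?_⟩
  · intro j hj hjn
    rw [hn] at hjn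
    exact (Nat.Coprime.dvd_of_dvd_mul_left (hj.pow_right _) hjn).trans (dvd_mul_left _ _)
  · exact Finset.mem_filter.2 ⟨Finset.mem_univ _, fun u _ g => rfl⟩
  · have e : Nat.card {χ : IrrCharacter G // AlmRat p (χ : G → ℂ)} =
        (Finset.univ.filter (fun χ : IrrCharacter G => AlmRat p (χ : G → ℂ))).card := by
      rw [Nat.card_eq_fintype_card, Fintype.card_subtype]
    rw [apr, e]
    refine Finset.card_le_card fun χ hχ => ?_
    rw [Finset.mem_filter] at hχ ⊢
    exact ⟨Finset.mem_univ _, almRat_of_fixed (Nat.mul_pos hp.pos hm) hsq hdv χ hχ.2⟩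
  · intro k _ _ f hf
    let A := act G
    have h1 := isPGroup_ker hpm hm hn hdv
    have h2 := sum_eq_sum_fixed h1 (α := IrrCharacter G) (k := k) f (by
      intro u χ
      apply hf
      intro x hx
      change (χ : G → ℂ) (x ^ ((u : (ZMod (Nat.card G))ˣ) : ZMod (Nat.card G)).val) = _
      rw [pow_ker hdv u.2 hx])
    rw [h2]
    apply Finset.sum_congr _ (fun _ _ => rfl)
    apply Finset.filter_congr
    intro χ _
    constructor
    · intro h3 u hu g
      have h4 := h3 ⟨u, hu⟩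
      exact congrFun (congrArg Subtype.val h4) g
    · intro h3 u
      exact Subtype.ext (funext fun g => h3 u.1 u.2 g)

theorem key_three : (∀ x : ZMod 3, (0 : ZMod 3) ≠ 1 + x ^ 2) ∧ (0 : ZMod 3) ≠ 1 + 0 := by decide

/-- **T23, `p = 3`.** -/
theorem three_le_apr_three (hd : 3 ∣ Nat.card G) : 3 ≤ apr 3 G := by
  classical
  have : Fact (Nat.Prime 3) := ⟨Nat.prime_three⟩
  have hfin := Core.finite_irr (G := G)
  have := Fintype.ofFinite (IrrCharacter G)
  have := Fintype.ofFinite G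
  obtain ⟨m', S, -, h1S, h6, hsumS⟩ := exists_fixed (G := G) Nat.prime_three hd
  choose d hd0 hd1 using fun χ : IrrCharacter G => Core.isIrr_apply_one χ.2
  have hsum : ∑ χ : IrrCharacter G, ((d χ : ZMod 3)) ^ 2 = 0 := by
    have h1 := Counting.sum_irr_one_mul (G := G) 1
    rw [if_pos rfl] at h1
    have h2 : ((∑ χ : IrrCharacter G, d χ ^ 2 : ℕ) : ℂ) = (Nat.card G : ℂ) := by
      rw [← h1]
      push_cast
      refine Finset.sum_congr rfl fun χ _ => ?_
      rw [hd1, pow_two]
    have h3 : (∑ χ : IrrCharacter G, d χ ^ 2 : ℕ) = Nat.card G := by exact_mod_cast h2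
    have h4 : ((∑ χ : IrrCharacter G, d χ ^ 2 : ℕ) : ZMod 3) = 0 := by
      rw [h3]
      exact (ZMod.natCast_eq_zero_iff _ _).2 hd
    push_cast at h4
    exact h4
  have h5 := hsumS (ZMod 3) (fun χ => ((d χ : ZMod 3)) ^ 2) (by
    intro χ ψ h
    have h1 := h 1 (by rw [orderOf_one]; exact one_dvd _)
    rw [hd1, hd1] at h1
    have h2 : d χ = d ψ := by exact_mod_cast h1
    change ((d χ : ZMod 3)) ^ 2 = ((d ψ : ZMod 3)) ^ 2
    rw [h2])
  rw [hsum] at h5
  set one : IrrCharacter G := ⟨1, Core.isIrr_one⟩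
  have hd_one : d one = 1 := by
    have := hd1 one
    have h2 : ((one : IrrCharacter G) : G → ℂ) 1 = 1 := rfl
    rw [h2] at this
    exact_mod_cast this.symm
  by_contra hcon
  have h7 : S.card = 1 ∨ S.card = 2 := by
    have : 0 < S.card := Finset.card_pos.2 ⟨one, h1S⟩
    omega
  have h8 : ∑ χ ∈ S, ((d χ : ZMod 3)) ^ 2 = 1 + ∑ χ ∈ S.erase one, ((d χ : ZMod 3)) ^ 2 := by
    rw [← Finset.add_sum_erase S _ h1S, hd_one]
    norm_num
  rw [h8] at h5
  rcases h7 with h7 | h7
  · have h9 : (S.erase one).card = 0 := by rw [Finset.card_erase_of_mem h1S, h7]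
    rw [Finset.card_eq_zero.1 h9, Finset.sum_empty] at h5
    exact key_three.2 h5
  · have h9 : (S.erase one).card = 1 := by rw [Finset.card_erase_of_mem h1S, h7]
    obtain ⟨ψ, hψ⟩ := Finset.card_eq_one.1 h9
    rw [hψ, Finset.sum_singleton] at h5
    exact key_three.1 _ h5

/-- a homomorphism from the algebraic integers to a ring of characteristic `2` -/
theorem exists_red : ∃ (k : Type) (_ : CommRing k) (_ : Nontrivial k) (_ : CharP k 2),
    Nonempty (integralClosure ℤ ℂ →+* k) := by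
  let A := integralClosure ℤ ℂ
  have h1 : Ideal.span {(2 : A)} ≠ ⊤ := by
    rw [Ne, Ideal.span_singleton_eq_top]
    intro h
    obtain ⟨y, hy⟩ := h.exists_right_inv
    have h2 : (2 : ℂ) * (y : ℂ) = 1 := congrArg Subtype.val hy
    have h3 : (y : ℂ) = ((1 / 2 : ℚ) : ℂ) := by
      push_cast
      field_simp
      rw [mul_comm]
      exact h2
    obtain ⟨z, hz⟩ := GaloisBasic.exists_int_of_isIntegral y.2 ⟨_, h3⟩
    rw [hz] at h2
    have h4 : (2 * z : ℤ) = 1 := by exact_mod_cast h2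
    omega
  have h2 : Nontrivial (A ⧸ Ideal.span {(2 : A)}) := Ideal.Quotient.nontrivial_iff.2 h1
  refine ⟨A ⧸ Ideal.span {(2 : A)}, inferInstance, h2, ?_, ⟨Ideal.Quotient.mk _⟩⟩
  have h3 : (2 : A ⧸ Ideal.span {(2 : A)}) = 0 := by
    have : (Ideal.Quotient.mk (Ideal.span {(2 : A)})) 2 = 0 :=
      Ideal.Quotient.eq_zero_iff_mem.2 (Ideal.mem_span_singleton_self _)
    rw [← this, map_ofNat]
  have h4 := CharP.exists (A ⧸ Ideal.span {(2 : A)})
  obtain ⟨c, hc⟩ := h4
  have h5 : c ∣ 2 := (CharP.cast_eq_zero_iff _ c 2).1 (by push_cast; exact h3)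
  have h6 : c ≠ 1 := by
    rintro rfl
    exact CharP.char_ne_one (A ⧸ Ideal.span {(2 : A)}) 1 rfl
  have h7 := (Nat.dvd_prime Nat.prime_two).1 h5
  rcases h7 with h7 | h7
  · exact absurd h7 h6
  · rw [← h7]; exact hc

/-- **T23, `p = 2`.** -/
theorem three_le_of_odd_centralizer (hd : 2 ∣ Nat.card G) {x : G} (hx : ¬ 2 ∣ orderOf x)
    (hc : ¬ 2 ∣ Nat.card (Subgroup.centralizer ({x} : Set G))) : 3 ≤ apr 2 G := by
  classical
  have : Fact (Nat.Prime 2) := ⟨Nat.prime_two⟩
  have hfin := Core.finite_irr (G := G)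
  have := Fintype.ofFinite (IrrCharacter G)
  have := Fintype.ofFinite G
  obtain ⟨m', S, hord, h1S, h6, hsumS⟩ := exists_fixed (G := G) Nat.prime_two hd
  obtain ⟨k, _, _, _, ⟨red⟩⟩ := exists_red
  let v : IrrCharacter G → G → integralClosure ℤ ℂ := fun χ g =>
    ⟨(χ : G → ℂ) g, GaloisBasic.isIntegral_apply (Core.isIrr_isCharacter χ.2) g⟩
  -- orthogonality
  have horth : ∀ w₁ w₂ : G, orderOf w₁ ∣ 2 * m' → orderOf w₂ ∣ 2 * m' →
      ∑ χ ∈ S, red (v χ w₁) * red (v χ w₂) =
        if IsConj w₁ w₂⁻¹ then (Nat.card (Subgroup.centralizer ({w₂⁻¹} : Set G)) : k) else 0 := by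
    intro w₁ w₂ h1 h2
    rw [← hsumS k (fun χ => red (v χ w₁) * red (v χ w₂))]
    · have e := S0145.sum_irr_mul_conj w₁ w₂⁻¹
      have e2 : ∑ χ : IrrCharacter G, v χ w₁ * v χ w₂ =
          if IsConj w₁ w₂⁻¹ then (Nat.card (Subgroup.centralizer ({w₂⁻¹} : Set G)) : integralClosure ℤ ℂ) else 0 := by
        apply Subtype.ext
        have e3 : ((∑ χ : IrrCharacter G, v χ w₁ * v χ w₂ : integralClosure ℤ ℂ) : ℂ) =
            ∑ χ : IrrCharacter G, (χ : G → ℂ) w₁ * (starRingEnd ℂ) ((χ : G → ℂ) w₂⁻¹) := by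
          rw [← Subalgebra.val_apply, map_sum]
          refine Finset.sum_congr rfl fun χ _ => ?_
          rw [map_mul]
          change (χ : G → ℂ) w₁ * (χ : G → ℂ) w₂ = _
          congr 1
          rw [← Core.isCharacter_apply_inv (Core.isIrr_isCharacter χ.2), inv_inv]
        rw [e3, e]
        split_ifs with h
        · push_cast
          rfl
        · rfl
      have e3 := congrArg red e2
      rw [map_sum] at e3
      simp only [map_mul] at e3
      rw [e3]
      split_ifs with h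
      · rw [map_natCast]
      · rw [map_zero]
    · intro χ ψ h
      have e1 : v χ w₁ = v ψ w₁ := Subtype.ext (h w₁ h1)
      have e2 : v χ w₂ = v ψ w₂ := Subtype.ext (h w₂ h2)
      change red (v χ w₁) * red (v χ w₂) = red (v ψ w₁) * red (v ψ w₂)
      rw [e1, e2]
  have hxo : orderOf x ∣ 2 * m' := hord _ (Nat.Coprime.symm ((Nat.Prime.coprime_iff_not_dvd Nat.prime_two).2 hx))
    (orderOf_dvd_natCard x)
  have hxo' : orderOf x⁻¹ ∣ 2 * m' := by rw [orderOf_inv]; exact hxo
  have h1o : orderOf (1 : G) ∣ 2 * m' := by rw [orderOf_one]; exact one_dvd _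
  have hx1 : x ≠ 1 := by
    rintro rfl
    apply hc
    have : Subgroup.centralizer ({1} : Set G) = ⊤ := by
      rw [eq_top_iff]
      intro g _
      rw [Subgroup.mem_centralizer_singleton_iff, one_mul, mul_one]
    rw [this]
    rwa [Nat.card_congr Subgroup.topEquiv.toEquiv]
  have c1 : ¬ IsConj (1 : G) x⁻¹ := by
    intro h
    rw [isConj_one_right] at h
    exact hx1 (inv_eq_one.1 h)
  have c2 : ¬ IsConj (1 : G) (x⁻¹)⁻¹ := by
    intro h
    rw [isConj_one_right, inv_inv] at h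
    exact hx1 h
  have A := horth 1 1 h1o h1o
  have B := horth 1 x h1o hxo
  have B' := horth 1 x⁻¹ h1o hxo'
  have C := horth x x⁻¹ hxo hxo'
  rw [if_pos (by rw [inv_one])] at A
  rw [if_neg c1] at B
  rw [if_neg c2] at B'
  rw [if_pos (by rw [inv_inv]), inv_inv] at C
  have hA : (Nat.card (Subgroup.centralizer ({(1 : G)⁻¹} : Set G)) : k) = 0 := by
    rw [CharP.cast_eq_zero_iff k 2]
    have : Subgroup.centralizer ({(1 : G)⁻¹} : Set G) = ⊤ := by
      rw [eq_top_iff]
      intro g _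
      rw [Subgroup.mem_centralizer_singleton_iff, inv_one, one_mul, mul_one]
    rw [this]
    rwa [Nat.card_congr Subgroup.topEquiv.toEquiv]
  have hC : (Nat.card (Subgroup.centralizer ({x} : Set G)) : k) = 1 := by
    obtain ⟨t, ht⟩ := (Nat.odd_iff.2 (by omega : Nat.card (Subgroup.centralizer ({x} : Set G)) % 2 = 1))
    rw [ht]
    push_cast
    have h2 : (2 : k) = 0 := by
      have := CharP.cast_eq_zero k 2
      push_cast at this
      exact this
    rw [h2, zero_mul, zero_add]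
  rw [hA] at A
  rw [hC] at C
  have h2 : (2 : k) = 0 := by
    have := CharP.cast_eq_zero k 2
    push_cast at this
    exact this
  set one : IrrCharacter G := ⟨1, Core.isIrr_one⟩
  have hone : ∀ g : G, red (v one g) = 1 := by
    intro g
    have : v one g = 1 := rfl
    rw [this, map_one]
  by_contra hcon
  have h7 : S.card = 1 ∨ S.card = 2 := by
    have : 0 < S.card := Finset.card_pos.2 ⟨one, h1S⟩
    omega
  rw [← Finset.add_sum_erase S _ h1S, hone] at A B B' C
  rw [hone] at B B' C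
  rcases h7 with h7 | h7
  · have h9 : (S.erase one).card = 0 := by rw [Finset.card_erase_of_mem h1S, h7]
    rw [Finset.card_eq_zero.1 h9, Finset.sum_empty, add_zero, one_mul] at A
    exact one_ne_zero A
  · have h9 : (S.erase one).card = 1 := by rw [Finset.card_erase_of_mem h1S, h7]
    obtain ⟨ψ, hψ⟩ := Finset.card_eq_one.1 h9
    rw [hψ, Finset.sum_singleton, one_mul] at A B B' C
    -- with `d = ψ(1)`, `a = ψ(x)`, `b = ψ(x⁻¹)`: `1 + d² = 0`, `1 + d a = 0`, `1 + d b = 0`, `1 + a b = 1`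
    generalize red (v ψ 1) = dd at A B B' C
    generalize red (v ψ x) = aa at A B B' C
    generalize red (v ψ x⁻¹) = bb at A B B' C
    have e1 : aa * bb = 0 := by linear_combination C
    have e2 : dd * dd * (aa * bb) = 1 := by
      linear_combination (dd * bb) * B - B'
    rw [e1, mul_zero] at e2
    exact zero_ne_one e2

end Cfsg.Agent.H342.S4790
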