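import Mathlib
import Cfsg.Agent.H342.S4790.Three
import Cfsg.Agent.Characters.Linear

/-!
# S4790, T24: the prime two (helper342)
-/

set_option autoImplicit false
set_option linter.unusedSectionVars false

namespace Cfsg.Agent.H342.S4790

open Cfsg Cfsg.Agent.Characters Cfsg.Agent.H697.Alm

universe u

section

variable {G : Type u} [Group G] [Finite G]

/-- at least two almost `2`-rational characters -/
theorem two_le_apr (hd : 2 ∣ Nat.card G) : 2 ≤ apr 2 G := by
  classical
  have : Fact (Nat.Prime 2) := ⟨Nat.prime_two⟩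
  have hfin := Core.finite_irr (G := G)
  have := Fintype.ofFinite (IrrCharacter G)
  have := Fintype.ofFinite G
  obtain ⟨m', S, -, h1S, h6, hsumS⟩ := exists_fixed (G := G) Nat.prime_two hd
  choose d hd0 hd1 using fun χ : IrrCharacter G => Core.isIrr_apply_one χ.2
  have hsum : ∑ χ : IrrCharacter G, ((d χ : ZMod 2)) ^ 2 = 0 := by
    have h1 := Counting.sum_irr_one_mul (G := G) 1
    rw [if_pos rfl] at h1
    have h2 : ((∑ χ : IrrCharacter G, d χ ^ 2 : ℕ) : ℂ) = (Nat.card G : ℂ) := by
      rw [← h1]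
      push_cast
      refine Finset.sum_congr rfl fun χ _ => ?_
      rw [hd1, pow_two]
    have h3 : (∑ χ : IrrCharacter G, d χ ^ 2 : ℕ) = Nat.card G := by exact_mod_cast h2
    have h4 : ((∑ χ : IrrCharacter G, d χ ^ 2 : ℕ) : ZMod 2) = 0 := by
      rw [h3]
      exact (ZMod.natCast_eq_zero_iff _ _).2 hd
    push_cast at h4
    exact h4
  have h5 := hsumS (ZMod 2) (fun χ => ((d χ : ZMod 2)) ^ 2) (by
    intro χ ψ h
    have h1 := h 1 (by rw [orderOf_one]; exact one_dvd _)
    rw [hd1, hd1] at h1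
    have h2 : d χ = d ψ := by exact_mod_cast h1
    change ((d χ : ZMod 2)) ^ 2 = ((d ψ : ZMod 2)) ^ 2
    rw [h2])
  rw [hsum] at h5
  set one : IrrCharacter G := ⟨1, Core.isIrr_one⟩
  have hd_one : d one = 1 := by
    have := hd1 one
    have h2 : ((one : IrrCharacter G) : G → ℂ) 1 = 1 := rfl
    rw [h2] at this
    exact_mod_cast this.symm
  by_contra hcon
  have h7 : S.card = 1 := by
    have : 0 < S.card := Finset.card_pos.2 ⟨one, h1S⟩
    omega
  have h9 : (S.erase one).card = 0 := by rw [Finset.card_erase_of_mem h1S, h7]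
  rw [← Finset.add_sum_erase S _ h1S, hd_one, Finset.card_eq_zero.1 h9, Finset.sum_empty, add_zero, Nat.cast_one,
    one_pow] at h5
  exact zero_ne_one h5

/-- three different almost `p`-rational characters -/
theorem three_le_apr_of {p : ℕ} {χ₁ χ₂ χ₃ : IrrCharacter G} (h12 : χ₁ ≠ χ₂) (h13 : χ₁ ≠ χ₃) (h23 : χ₂ ≠ χ₃)
    (h1 : AlmRat p (χ₁ : G → ℂ)) (h2 : AlmRat p (χ₂ : G → ℂ)) (h3 : AlmRat p (χ₃ : G → ℂ)) : 3 ≤ apr p G := by
  classical
  have hfin := Core.finite_irr (G := G)
  have := Fintype.ofFinite (IrrCharacter G)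
  have e : Nat.card {χ : IrrCharacter G // AlmRat p (χ : G → ℂ)} =
      (Finset.univ.filter (fun χ : IrrCharacter G => AlmRat p (χ : G → ℂ))).card := by
    rw [Nat.card_eq_fintype_card, Fintype.card_subtype]
  rw [apr, e]
  have h4 : ({χ₁, χ₂, χ₃} : Finset (IrrCharacter G)).card = 3 := Finset.card_eq_three.2 ⟨_, _, _, h12, h13, h23, rfl⟩
  rw [← h4]
  refine Finset.card_le_card fun χ hχ => ?_
  rw [Finset.mem_insert, Finset.mem_insert, Finset.mem_singleton] at hχ
  rw [Finset.mem_filter]
  refine ⟨Finset.mem_univ _, ?_⟩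
  rcases hχ with rfl | rfl | rfl
  · exact h1
  · exact h2
  · exact h3

/-- rational valued characters -/
theorem almRat_of_rat {p : ℕ} (hp : p.Prime) {χ : G → ℂ} (h : ∀ g, ∃ q : ℚ, χ g = q) : AlmRat p χ := by
  refine ⟨1, one_pos, ?_, fun g => ?_⟩
  · intro h1
    have h2 := Nat.le_of_dvd one_pos h1
    have h3 := hp.two_le
    nlinarith
  · obtain ⟨q, hq⟩ := h g
    rw [hq]
    exact (IntermediateField.adjoin ℚ _).algebraMap_mem q

open Classical in
/-- the sign character of a subgroup of index two -/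
noncomputable def sgn (M : Subgroup G) (hM : M.index = 2) : G →* ℂˣ where
  toFun g := if g ∈ M then 1 else -1
  map_one' := if_pos M.one_mem
  map_mul' a b := by
    have h := Subgroup.mul_mem_iff_of_index_two hM (a := a) (b := b)
    by_cases ha : a ∈ M <;> by_cases hb : b ∈ M
    · rw [if_pos ha, if_pos hb, if_pos (h.2 (by simp [ha, hb])), one_mul]
    · rw [if_pos ha, if_neg hb, if_neg (fun h1 => by have := h.1 h1; tauto), one_mul]
    · rw [if_neg ha, if_pos hb, if_neg (fun h1 => by have := h.1 h1; tauto), mul_one]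
    · rw [if_neg ha, if_neg hb, if_pos (h.2 (by simp [ha, hb])), neg_mul_neg, one_mul]

theorem sgn_eq_one_iff (M : Subgroup G) (hM : M.index = 2) (g : G) : ((sgn M hM g : ℂˣ) : ℂ) = 1 ↔ g ∈ M := by
  classical
  change (((if g ∈ M then 1 else -1 : ℂˣ)) : ℂ) = 1 ↔ _
  by_cases h : g ∈ M
  · rw [if_pos h]
    simp [h]
  · rw [if_neg h]
    simp only [Units.val_neg, Units.val_one, h, iff_false]
    norm_num

/-- the subgroups of index two of a group with two almost `2`-rational characters -/
theorem eq_of_index_two (h2 : apr 2 G ≤ 2) {M₁ M₂ : Subgroup G} (h1 : M₁.index = 2) (h2' : M₂.index = 2) :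
    M₁ = M₂ := by
  classical
  by_contra hne
  have hrat : ∀ (M : Subgroup G) (hM : M.index = 2), AlmRat 2 (fun g : G => ((sgn M hM g : ℂˣ) : ℂ)) := by
    intro M hM
    refine almRat_of_rat Nat.prime_two fun g => ?_
    change ∃ q : ℚ, (((if g ∈ M then 1 else -1 : ℂˣ)) : ℂ) = q
    by_cases h : g ∈ M
    · exact ⟨1, by rw [if_pos h]; simp⟩
    · exact ⟨-1, by rw [if_neg h]; simp⟩
  have hntop : ∀ (M : Subgroup G), M.index = 2 → ∃ g : G, g ∉ M := by
    intro M hM
    by_contra hcon
    push Not at hcon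
    have : M = ⊤ := by
      rw [eq_top_iff]
      exact fun g _ => hcon g
    rw [this, Subgroup.index_top] at hM
    omega
  have h3 := three_le_apr_of (p := 2) (G := G) (χ₁ := ⟨1, Core.isIrr_one⟩)
    (χ₂ := ⟨fun g => ((sgn M₁ h1 g : ℂˣ) : ℂ), Linear.isIrrCharacter_hom _⟩)
    (χ₃ := ⟨fun g => ((sgn M₂ h2' g : ℂˣ) : ℂ), Linear.isIrrCharacter_hom _⟩) ?_ ?_ ?_
    (almRat_of_rat Nat.prime_two fun g => ⟨1, by simp⟩) (hrat M₁ h1) (hrat M₂ h2')
  · omega
  · intro h
    obtain ⟨g, hg⟩ := hntop M₁ h1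
    have h3 := congrFun (congrArg Subtype.val h) g
    exact hg ((sgn_eq_one_iff M₁ h1 g).1 h3.symm)
  · intro h
    obtain ⟨g, hg⟩ := hntop M₂ h2'
    have h3 := congrFun (congrArg Subtype.val h) g
    exact hg ((sgn_eq_one_iff M₂ h2' g).1 h3.symm)
  · intro h
    apply hne
    ext g
    have h3 := congrFun (congrArg Subtype.val h) g
    change ((sgn M₁ h1 g : ℂˣ) : ℂ) = ((sgn M₂ h2' g : ℂˣ) : ℂ) at h3
    rw [← sgn_eq_one_iff M₁ h1 g, ← sgn_eq_one_iff M₂ h2' g, h3]

/-- maximal subgroups of `2`-groups -/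
theorem index_two_of_isCoatom (hG : IsPGroup 2 G) {M : Subgroup G} (hM : IsCoatom M) : M.index = 2 := by
  have : Fact (Nat.Prime 2) := ⟨Nat.prime_two⟩
  obtain ⟨n, hn⟩ := IsPGroup.iff_card.1 hG
  obtain ⟨k, hk⟩ := IsPGroup.iff_card.1 (hG.to_subgroup M)
  have h1 := M.card_mul_index
  rw [hn, hk] at h1
  have hkn : k < n := by
    by_contra hcon
    push Not at hcon
    have h2 : 2 ^ n ≤ 2 ^ k := Nat.pow_le_pow_right (by norm_num) hcon
    have h3 : 0 < 2 ^ k := by positivity
    have h4 : M.index ≤ 1 := by nlinarith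
    have h5 : M.index ≠ 0 := Subgroup.index_ne_zero_of_finite
    have h6 : M.index = 1 := by omega
    exact hM.1 (Subgroup.index_eq_one.1 h6)
  obtain ⟨K, hK, hMK⟩ := Sylow.exists_subgroup_card_pow_succ (p := 2) (n := k) (G := G)
    (by rw [hn]; exact pow_dvd_pow 2 hkn) hk
  have hKtop : K = ⊤ := by
    apply hM.2
    refine lt_of_le_of_ne hMK ?_
    rintro rfl
    rw [hk] at hK
    exact absurd hK (by rw [pow_succ]; have : 0 < 2 ^ k := by positivity
                        omega)
  rw [hKtop, Nat.card_congr Subgroup.topEquiv.toEquiv, hn] at hK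
  rw [hK, pow_succ] at h1
  exact Nat.eq_of_mul_eq_mul_left (by positivity) h1

/-- **`2`-groups.** -/
theorem isCyclic_of_two_group (hG : IsPGroup 2 G) (h2 : apr 2 G ≤ 2) : IsCyclic G := by
  rcases eq_top_or_exists_le_coatom (⊥ : Subgroup G) with hbot | ⟨M, hM, -⟩
  · have : Subsingleton G := Subgroup.subsingleton_iff.1 (subsingleton_of_bot_eq_top hbot)
    infer_instance
  · obtain ⟨g, hg⟩ : ∃ g : G, g ∉ M := by
      by_contra hcon
      push Not at hcon
      exact hM.1 (by rw [eq_top_iff]; exact fun g _ => hcon g)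
    have h1 : Subgroup.zpowers g = ⊤ := by
      rcases eq_top_or_exists_le_coatom (Subgroup.zpowers g) with h | ⟨M', hM', hle⟩
      · exact h
      · exfalso
        have h3 := eq_of_index_two h2 (index_two_of_isCoatom hG hM) (index_two_of_isCoatom hG hM')
        apply hg
        rw [h3]
        exact hle (Subgroup.mem_zpowers g)
    refine ⟨g, fun x => ?_⟩
    have : x ∈ Subgroup.zpowers g := by rw [h1]; trivial
    exact this

/-- **Groups of odd order.** -/
theorem three_le_of_odd (ho : ¬ 2 ∣ Nat.card G) (h1 : Nat.card G ≠ 1) : 3 ≤ apr 2 G := by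
  classical
  have hfin := Core.finite_irr (G := G)
  have := Fintype.ofFinite (IrrCharacter G)
  have hall : ∀ χ : IrrCharacter G, AlmRat 2 (χ : G → ℂ) := by
    intro χ
    refine almRat_of_fixed (n' := Nat.card G) Nat.card_pos (fun h => ho (Dvd.dvd.trans (by norm_num) h)) dvd_rfl χ ?_
    intro u hu g
    rw [ZMod.unitsMap_self] at hu
    have hu1 : u = 1 := hu
    have := pow_val_cast g 1
    rw [Nat.cast_one, pow_one] at this
    rw [hu1, Units.val_one, this]
  have h2 : apr 2 G = Nat.card (ConjClasses G) := by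
    rw [← Core.card_irr, apr]
    exact Nat.card_congr (Equiv.subtypeUnivEquiv hall)
  rw [h2]
  have hnt : Nontrivial G := by
    rw [← Finite.one_lt_card_iff_nontrivial]
    have : 0 < Nat.card G := Nat.card_pos
    omega
  obtain ⟨g, hg⟩ := exists_ne (1 : G)
  have hodd : Odd (Nat.card G) := Nat.not_even_iff_odd.1 (fun h => ho h.two_dvd)
  have hinv : g ≠ g⁻¹ := by
    intro h
    have h3 : g ^ 2 = 1 := by rw [pow_two]; nth_rewrite 2 [h]; exact mul_inv_cancel g
    have h4 : orderOf g ∣ 2 := orderOf_dvd_of_pow_eq_one h3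
    have h5 : orderOf g ∣ Nat.card G := orderOf_dvd_natCard g
    rcases (Nat.dvd_prime Nat.prime_two).1 h4 with h6 | h6
    · exact hg (orderOf_eq_one_iff.1 h6)
    · rw [h6] at h5
      exact ho h5
  have hconj : ¬ IsConj g g⁻¹ := by
    intro h
    obtain ⟨c, hc⟩ := isConj_iff.1 h
    -- `c²` commutes with `g`, so does `c`
    have h3 : c * g = g⁻¹ * c := by rw [← hc, inv_mul_cancel_right]
    have h4 : Commute (c ^ 2) g := by
      have h5 : c * g⁻¹ * c⁻¹ = g := by
        calc c * g⁻¹ * c⁻¹ = (c * g * c⁻¹)⁻¹ := by rw [mul_inv_rev, mul_inv_rev, inv_inv, mul_assoc]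
          _ = g := by rw [hc, inv_inv]
      have h6 : c * g⁻¹ = g * c := mul_inv_eq_iff_eq_mul.1 h5
      change c ^ 2 * g = g * c ^ 2
      rw [pow_two, mul_assoc, h3, ← mul_assoc, h6, mul_assoc]
    obtain ⟨j, hj⟩ := hodd
    have h5 : c = (c ^ 2) ^ (j + 1) := by
      rw [← pow_mul, show 2 * (j + 1) = Nat.card G + 1 by omega, pow_succ, pow_card_eq_one', one_mul]
    have h6 : Commute c g := by
      rw [h5]; exact h4.pow_left _
    rw [h6.eq, mul_inv_cancel_right] at hc
    exact hinv hc
  have e1 : ConjClasses.mk (1 : G) ≠ ConjClasses.mk g := fun h => by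
    rw [ConjClasses.mk_eq_mk_iff_isConj, isConj_one_right] at h
    exact hg h
  have e2 : ConjClasses.mk (1 : G) ≠ ConjClasses.mk g⁻¹ := fun h => by
    rw [ConjClasses.mk_eq_mk_iff_isConj, isConj_one_right] at h
    exact hg (inv_eq_one.1 h)
  have e3 : ConjClasses.mk g ≠ ConjClasses.mk g⁻¹ := fun h => by
    rw [ConjClasses.mk_eq_mk_iff_isConj] at h
    exact hconj h
  have := Fintype.ofFinite (ConjClasses G)
  rw [Nat.card_eq_fintype_card]
  have h4 : ({ConjClasses.mk (1 : G), ConjClasses.mk g, ConjClasses.mk g⁻¹} : Finset (ConjClasses G)).card = 3 :=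
    Finset.card_eq_three.2 ⟨_, _, _, e1, e2, e3, rfl⟩
  rw [← h4]
  exact Finset.card_le_univ _

theorem exists_min_normal (h : Nat.card G ≠ 1) : ∃ N : Subgroup G, N.Normal ∧ N ≠ ⊥ ∧
    ∀ M : Subgroup G, M.Normal → M ≤ N → M = ⊥ ∨ M = N := by
  have hnt : (⊤ : Subgroup G) ≠ ⊥ := by
    intro h1
    apply h
    have : Nat.card (⊤ : Subgroup G) = 1 := by rw [h1]; exact Subgroup.card_bot
    rwa [Nat.card_congr Subgroup.topEquiv.toEquiv] at this
  obtain ⟨N, ⟨hN1, hN2⟩, hmin⟩ := Set.Finite.exists_minimal (s := {N : Subgroup G | N.Normal ∧ N ≠ ⊥})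
    (Set.toFinite _) ⟨⊤, inferInstance, hnt⟩
  refine ⟨N, hN1, hN2, fun M hM hle => ?_⟩
  by_cases h1 : M = ⊥
  · exact Or.inl h1
  · exact Or.inr (le_antisymm hle (hmin ⟨hM, h1⟩ hle))

end

/-- **The prime two, from T18 and T24a.** -/
theorem case_two_aux
    (hq : ∀ (G : Type u) [Group G] [Finite G] (N : Subgroup G) [N.Normal], apr 2 (G ⧸ N) ≤ apr 2 G)
    (hql : ∀ (G : Type u) [Group G] [Finite G] (N : Subgroup G) [N.Normal], N ≠ ⊥ →
      (¬ 2 ∣ Nat.card N ∨ commutator N = ⊤) → apr 2 (G ⧸ N) < apr 2 G)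
    (hoc : ∀ (G : Type u) [Group G] [Finite G], IsSimpleGroup G → ¬ IsMulCommutative G →
      ∃ x : G, ¬ 2 ∣ orderOf x ∧ ¬ 2 ∣ Nat.card (Subgroup.centralizer ({x} : Set G))) :
    ∀ (n : ℕ) (G : Type u) [Group G] [Finite G], Nat.card G = n → 2 ∣ Nat.card G → apr 2 G ≤ 2 →
      IsPGroup 2 G ∧ IsCyclic G := by
  have : Fact (Nat.Prime 2) := ⟨Nat.prime_two⟩
  intro n
  induction n using Nat.strong_induction_on with
  | _ n ih =>
    intro G _ _ hn hd h2
    suffices hG : IsPGroup 2 G from ⟨hG, isCyclic_of_two_group hG h2⟩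
    obtain ⟨N, hN, hN1, hmin⟩ := exists_min_normal (G := G) (by rintro h; rw [h] at hd; omega)
    by_cases hQ : 2 ∣ Nat.card (G ⧸ N)
    · -- `G ⧸ N` is a 2-group
      have hlt : Nat.card (G ⧸ N) < n := by
        have h3 := Subgroup.card_eq_card_quotient_mul_card_subgroup N
        have h4 : 1 < Nat.card N := by
          rw [Finite.one_lt_card_iff_nontrivial, Subgroup.nontrivial_iff_ne_bot]
          exact hN1
        have h5 : 0 < Nat.card (G ⧸ N) := Nat.card_pos
        rw [← hn, h3]
        nlinarith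
      have h3 := hq G N
      obtain ⟨h4, -⟩ := ih _ hlt (G ⧸ N) rfl hQ (h3.trans h2)
      have h5 := two_le_apr (G := G ⧸ N) hQ
      have h6 : ¬ (¬ 2 ∣ Nat.card N ∨ commutator N = ⊤) := fun h => by
        have := hql G N hN1 h
        omega
      push Not at h6
      obtain ⟨h7, h8⟩ := h6
      -- `N` is abelian
      have h9 : ⁅N, N⁆ = ⊥ := by
        rcases hmin ⁅N, N⁆ inferInstance (Subgroup.commutator_le_self N) with h | h
        · exact h
        · exfalso
          apply h8
          have h10 : (commutator N).map N.subtype = ⁅N, N⁆ := by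
            rw [_root_.commutator_def, Subgroup.map_commutator, ← MonoidHom.range_eq_map, Subgroup.range_subtype]
          rw [h] at h10
          apply Subgroup.map_injective N.subtype_injective
          rw [h10, ← MonoidHom.range_eq_map, Subgroup.range_subtype]
      have hcomm : ∀ x ∈ N, ∀ y ∈ N, x * y = y * x := by
        intro x hx y hy
        have h10 := Subgroup.commutator_mem_commutator hx hy
        rw [h9, Subgroup.mem_bot, commutatorElement_eq_one_iff_mul_comm] at h10
        exact h10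
      -- `N` has exponent two
      let A : Subgroup G :=
        { carrier := {x | x ∈ N ∧ x ^ 2 = 1}
          one_mem' := ⟨N.one_mem, one_pow 2⟩
          mul_mem' := by
            rintro a b ⟨ha, ha2⟩ ⟨hb, hb2⟩
            refine ⟨N.mul_mem ha hb, ?_⟩
            have hc : Commute a b := hcomm a ha b hb
            rw [hc.mul_pow, ha2, hb2, one_mul]
          inv_mem' := by
            rintro a ⟨ha, ha2⟩
            exact ⟨N.inv_mem ha, by rw [inv_pow, ha2, inv_one]⟩ }
      have hA : A.Normal := ⟨fun a ha g => ⟨hN.conj_mem a ha.1 g, by rw [conj_pow, ha.2, mul_one, mul_inv_cancel]⟩⟩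
      have hAN : A = N := by
        rcases hmin A hA (fun a ha => ha.1) with h | h
        · exfalso
          obtain ⟨t, ht⟩ := exists_prime_orderOf_dvd_card' 2 h7
          have h10 : (t : G) ∈ A := ⟨t.2, by
            have := pow_orderOf_eq_one t
            rw [ht] at this
            exact congrArg Subtype.val this⟩
          rw [h, Subgroup.mem_bot] at h10
          have h11 : t = 1 := Subtype.ext h10
          rw [h11, orderOf_one] at ht
          omega
        · exact h
      intro g
      obtain ⟨k, hk⟩ := h4 (QuotientGroup.mk g)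
      refine ⟨k + 1, ?_⟩
      have h10 : g ^ 2 ^ k ∈ N := by
        rw [← QuotientGroup.eq_one_iff]
        exact hk
      rw [← hAN] at h10
      rw [pow_succ, pow_mul]
      exact h10.2
    · by_cases h1 : Nat.card (G ⧸ N) = 1
      · -- `G = N` is simple
        have hNtop : N = ⊤ := Subgroup.index_eq_one.1 h1
        have hsimple : IsSimpleGroup G := by
          have hnt : Nontrivial G := by
            rw [← Finite.one_lt_card_iff_nontrivial]
            have := Nat.le_of_dvd Nat.card_pos hd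
            omega
          refine ⟨fun M hM => ?_⟩
          rcases hmin M hM (by rw [hNtop]; exact le_top) with h | h
          · exact Or.inl h
          · exact Or.inr (h.trans hNtop)
        by_cases hna : IsMulCommutative G
        · obtain ⟨t, ht⟩ := exists_prime_orderOf_dvd_card' 2 hd
          have hZ : (Subgroup.zpowers t).Normal := ⟨fun x hx g => by
            have : g * x * g⁻¹ = x := by
              rw [hna.is_comm.comm g x, mul_inv_cancel_right]
            rwa [this]⟩
          have htop : Subgroup.zpowers t = ⊤ := by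
            rcases hZ.eq_bot_or_eq_top with h | h
            · exfalso
              rw [Subgroup.zpowers_eq_bot] at h
              rw [h, orderOf_one] at ht
              omega
            · exact h
          have hcard : Nat.card G = 2 ^ 1 := by
            rw [← Nat.card_congr (Subgroup.topEquiv (G := G)).toEquiv, ← htop, Nat.card_zpowers, ht, pow_one]
          exact IsPGroup.of_card hcard
        · exfalso
          obtain ⟨x, hx1, hx2⟩ := hoc G hsimple hna
          have := three_le_of_odd_centralizer hd hx1 hx2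
          omega
      · exfalso
        have h3 := three_le_of_odd (G := G ⧸ N) hQ h1
        have h4 := hq G N
        omega

/-- **T24b, from T18 and T24a.** -/
theorem case_two_of
    (hq : ∀ (G : Type u) [Group G] [Finite G] (N : Subgroup G) [N.Normal], apr 2 (G ⧸ N) ≤ apr 2 G)
    (hql : ∀ (G : Type u) [Group G] [Finite G] (N : Subgroup G) [N.Normal], N ≠ ⊥ →
      (¬ 2 ∣ Nat.card N ∨ commutator N = ⊤) → apr 2 (G ⧸ N) < apr 2 G)
    (hoc : ∀ (G : Type u) [Group G] [Finite G], IsSimpleGroup G → ¬ IsMulCommutative G →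
      ∃ x : G, ¬ 2 ∣ orderOf x ∧ ¬ 2 ∣ Nat.card (Subgroup.centralizer ({x} : Set G)))
    {G : Type u} [Group G] [Finite G] (hd : 2 ∣ Nat.card G) :
    4 * (2 - 1) ≤ apr 2 G ^ 2 ∧ (apr 2 G ^ 2 = 4 * (2 - 1) → Ext 2 G) := by
  have h1 := two_le_apr hd
  refine ⟨by nlinarith, fun h2 => ?_⟩
  have h3 : apr 2 G ≤ 2 := by nlinarith
  obtain ⟨h4, h5⟩ := case_two_aux hq hql hoc _ G rfl hd h3
  have : Fact (Nat.Prime 2) := ⟨Nat.prime_two⟩
  obtain ⟨e, he⟩ := IsPGroup.iff_card.1 h4
  refine ⟨1, e, ⊤, ⊥, by norm_num, inferInstance, ?_, ?_, inferInstance, Subgroup.card_bot, by simp, by rw [he, mul_one],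
    fun h hh hh1 => absurd (Subgroup.mem_bot.1 hh) hh1⟩
  · exact isCyclic_of_surjective (Subgroup.topEquiv (G := G)).symm (Subgroup.topEquiv (G := G)).symm.surjective
  · rw [Nat.card_congr Subgroup.topEquiv.toEquiv, he]

end Cfsg.Agent.H342.S4790
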